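import Cfsg.Agent.Lib.Local.GlaubermanZJ
import Cfsg.Agent.Lib.Local.TimmesfeldReplacement
import Cfsg.Agent.Lib.PGroup.Basic

/-!
# An abelian subgroup of largest order with smallest image modulo a normal subgroup

The replacement of such a subgroup along an abelian subgroup `U` of the normal subgroup `Q` is
either a subgroup of `Q` or has the same image modulo `Q`; this makes the action on `U` quadratic
as soon as `U` is centralized by `A ∩ Q`.
-/

set_option autoImplicit false

namespace Cfsg.Lib.Local.JTransfer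

open Subgroup Cfsg Cfsg.Lib.Local.GlaubermanZJ
open scoped commutatorElement

universe u

variable {G : Type u} [Group G]

theorem cm {U : Subgroup G} (hU : IsMulCommutative U) {x y : G} (hx : x ∈ U) (hy : y ∈ U) :
    x * y = y * x :=
  congrArg Subtype.val (hU.is_comm.comm ⟨x, hx⟩ ⟨y, hy⟩)

theorem conj_expand (a m : G) : a * m * a⁻¹ = ⁅m, a⁆⁻¹ * m := by
  simp only [commutatorElement_def]; group

theorem cmul_right (x a b : G) : ⁅x, a * b⁆ = ⁅x, a⁆ * (a * ⁅x, b⁆ * a⁻¹) := by
  simp only [commutatorElement_def]; group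

theorem cmul_left (m n b : G) : ⁅m * n, b⁆ = m * ⁅n, b⁆ * m⁻¹ * ⁅m, b⁆ := by
  simp only [commutatorElement_def]; group

theorem comm_mem_of_le_normalizer {U A : Subgroup G} (h : A ≤ normalizer (U : Set G)) {u a : G}
    (hu : u ∈ U) (ha : a ∈ A) : ⁅u, a⁆ ∈ U :=
  le_normalizer_iff_commutator_le_left.1 h (commutator_mem_commutator hu ha)

theorem conj_mem_of_le_normalizer {U A : Subgroup G} (h : A ≤ normalizer (U : Set G)) {u a : G}
    (hu : u ∈ U) (ha : a ∈ A) : a * u * a⁻¹ ∈ U :=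
  (mem_normalizer_iff.1 (h ha) u).1 hu

/-- Two commuting elements can be interchanged in a double commutator inside an abelian subgroup. -/
theorem comm_swap {U A : Subgroup G} (hU : IsMulCommutative U) (hAU : A ≤ normalizer (U : Set G))
    {x a b : G} (ha : a ∈ A) (hb : b ∈ A) (hab : a * b = b * a) (hxa : ⁅x, a⁆ ∈ U)
    (hxb : ⁅x, b⁆ ∈ U) : ⁅⁅x, b⁆, a⁆ = ⁅⁅x, a⁆, b⁆ := by
  have h1 : ⁅⁅x, b⁆, a⁆ ∈ U := comm_mem_of_le_normalizer hAU hxb ha
  have h2 : ⁅⁅x, a⁆, b⁆ ∈ U := comm_mem_of_le_normalizer hAU hxa hb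
  have e : ⁅x, a⁆ * (⁅⁅x, b⁆, a⁆⁻¹ * ⁅x, b⁆) = ⁅x, b⁆ * (⁅⁅x, a⁆, b⁆⁻¹ * ⁅x, a⁆) := by
    rw [← conj_expand, ← conj_expand, ← cmul_right, ← cmul_right, hab]
  rw [cm hU (inv_mem h1) hxb, cm hU (inv_mem h2) hxa, ← mul_assoc, ← mul_assoc,
    cm hU hxb hxa] at e
  exact inv_injective (mul_left_cancel e)

theorem normalizer_commutator {U A : Subgroup G} (hAU : A ≤ normalizer (U : Set G)) :
    A ≤ normalizer ((⁅U, A⁆ : Subgroup G) : Set G) := by
  refine le_normalizer_iff_commutator_le_left.2 ?_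
  exact commutator_mono (le_normalizer_iff_commutator_le_left.1 hAU) le_rfl

theorem le_centralizer_self {A : Subgroup G} (hA : IsMulCommutative A) :
    A ≤ centralizer (A : Set G) := fun _ hx =>
  mem_centralizer_iff.2 fun _ hy => cm hA hy hx

theorem abelian_sup {H K : Subgroup G} (hH : IsMulCommutative H) (hK : IsMulCommutative K)
    (h : ∀ x ∈ H, ∀ y ∈ K, x * y = y * x) : IsMulCommutative (H ⊔ K : Subgroup G) := by
  have e : IsMulCommutative (closure ((H : Set G) ∪ (K : Set G))) := by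
    refine isMulCommutative_closure ?_
    rintro a (ha | ha) b (hb | hb)
    · exact cm hH ha hb
    · exact h a ha b hb
    · exact (h b hb a ha).symm
    · exact cm hK ha hb
  rwa [Subgroup.closure_union, Subgroup.closure_eq, Subgroup.closure_eq] at e

theorem abelian_of_le {H K : Subgroup G} (hK : IsMulCommutative K) (h : H ≤ K) :
    IsMulCommutative H :=
  ⟨⟨fun x y => Subtype.ext (cm hK (h x.2) (h y.2))⟩⟩

/-- `A` is an abelian subgroup of largest order of the `p`-group `T`, it is not contained in `Q`,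
and no such subgroup has a smaller image modulo `Q` inside that of `A`. -/
structure Setup (p : ℕ) (T Q A : Subgroup G) : Prop where
  pT : IsPGroup p T
  QT : Q ≤ T
  max : IsMaxAbIn T A
  nle : ¬ A ≤ Q
  min : ∀ B, IsMaxAbIn T B → ¬ B ≤ Q → B ≤ A ⊔ Q → A ≤ B ⊔ Q

variable [Finite G] {p : ℕ} {T Q A : Subgroup G}

theorem Setup.comm (h : Setup p T Q A) : IsMulCommutative A := h.max.2.1

theorem Setup.le_T (h : Setup p T Q A) : A ≤ T := h.max.1

/-- What is centralized by `A` in `Q` lies in `A`. -/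
theorem Setup.mem_of_centralizer (h : Setup p T Q A) {x : G} (hx : x ∈ Q)
    (hc : x ∈ centralizer (A : Set G)) : x ∈ A :=
  h.max.mem_of_commute (h.QT hx) fun a ha => (mem_centralizer_iff.1 hc a ha).symm

/-- A large abelian subgroup of `T` is an abelian subgroup of largest order. -/
theorem Setup.isMaxAb (h : Setup p T Q A) {B : Subgroup G} (hBT : B ≤ T)
    (hB : IsMulCommutative B) (hc : Nat.card A ≤ Nat.card B) : IsMaxAbIn T B :=
  ⟨hBT, hB, fun C hC hCc => (h.max.2.2 C hC hCc).trans hc⟩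

/-- The replacement along `U`. -/
theorem Setup.replace (h : Setup p T Q A) {U : Subgroup G} (hU : IsMulCommutative U) (hUQ : U ≤ Q)
    (hAU : A ≤ normalizer (U : Set G)) :
    (U ⊓ centralizer ((A ⊓ centralizer ((⁅U, A⁆ : Subgroup G) : Set G) : Subgroup G) : Set G) =
        ⁅U, A⁆ ⊔ (U ⊓ centralizer (A : Set G)) ∧
      Nat.card A * Nat.card (U ⊓ centralizer (A : Set G) : Subgroup G) =
        Nat.card (A ⊓ centralizer ((⁅U, A⁆ : Subgroup G) : Set G) : Subgroup G) *
          Nat.card (U ⊓ centralizer ((A ⊓ centralizer ((⁅U, A⁆ : Subgroup G) : Set G) : Subgroup G) :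
            Set G) : Subgroup G)) ∧
      IsMaxAbIn T ((A ⊓ centralizer ((⁅U, A⁆ : Subgroup G) : Set G)) ⊔
        (U ⊓ centralizer ((A ⊓ centralizer ((⁅U, A⁆ : Subgroup G) : Set G) : Subgroup G) : Set G))) := by
  have hA := h.comm
  have hsupc : ∀ B ≤ A, IsMulCommutative (B ⊔ (U ⊓ centralizer (B : Set G)) : Subgroup G) :=
    fun B hB => abelian_sup (abelian_of_le hA hB) (abelian_of_le hU inf_le_left)
      fun x hx y hy => mem_centralizer_iff.1 hy.2 x hx
  have hinf : ∀ B ≤ A,
      B ⊓ (U ⊓ centralizer (B : Set G)) ≤ U ⊓ centralizer (A : Set G) := fun B hB x hx =>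
    ⟨hx.2.1, le_centralizer_self hA (hB hx.1)⟩
  have hle : ∀ B ≤ A, B ⊔ (U ⊓ centralizer (B : Set G)) ≤ T := fun B hB =>
    sup_le (hB.trans h.le_T) (inf_le_left.trans (hUQ.trans h.QT))
  haveI := hU
  have hr := Cfsg.Lib.Local.Timmesfeld.replacement U A hAU
    (by rw [show ⁅A, A⁆ = ⊥ from commutator_eq_bot_iff_le_centralizer.2 (le_centralizer_self hA)]
        exact bot_le)
    (fun B hB => by
      refine (Cfsg.Lib.Local.Timmesfeld.card_mul_card_le B _).trans ?_
      rw [mul_comm (Nat.card A)]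
      exact Nat.mul_le_mul (card_le_of_le (hinf B hB)) (h.max.2.2 _ (hle B hB) (hsupc B hB)))
    (le_refl U)
  refine ⟨hr, h.isMaxAb (hle _ inf_le_left) (hsupc _ inf_le_left) ?_⟩
  have h1 := (hr.2.le.trans (Cfsg.Lib.Local.Timmesfeld.card_mul_card_le _ _)).trans
    (Nat.mul_le_mul_right _ (card_le_of_le (hinf _ inf_le_left)))
  rw [mul_comm] at h1
  exact Nat.le_of_mul_le_mul_left h1 Nat.card_pos

/-- If the replacement stays outside `Q`, then `A` and `C_A([U, A])` have the same image. -/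
theorem Setup.switch (h : Setup p T Q A) {U : Subgroup G} (hU : IsMulCommutative U) (hUQ : U ≤ Q)
    (hAU : A ≤ normalizer (U : Set G))
    (hC : ¬ A ⊓ centralizer ((⁅U, A⁆ : Subgroup G) : Set G) ≤ Q) :
    A ≤ (A ⊓ centralizer ((⁅U, A⁆ : Subgroup G) : Set G)) ⊔ Q := by
  have h1 := h.min _ (h.replace hU hUQ hAU).2 (fun hle => hC (le_sup_left.trans hle))
    (sup_le (inf_le_left.trans le_sup_left) (inf_le_left.trans (hUQ.trans le_sup_right)))
  exact h1.trans (sup_le (sup_le le_sup_left (inf_le_left.trans (hUQ.trans le_sup_right))) le_sup_right)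

/-- `A` acts quadratically on what is centralized by `A ∩ Q`. -/
theorem Setup.quad [Fact p.Prime] [Q.Normal] (h : Setup p T Q A) {U : Subgroup G}
    (hU : IsMulCommutative U) (hUQ : U ≤ Q) (hAU : A ≤ normalizer (U : Set G))
    (hU0 : U ≤ centralizer ((A ⊓ Q : Subgroup G) : Set G)) : ⁅⁅U, A⁆, A⁆ = ⊥ := by
  set M := ⁅U, A⁆ with hM
  set C := A ⊓ centralizer (M : Set G) with hC
  have hMU : M ≤ U := le_normalizer_iff_commutator_le_left.1 hAU
  have hA0 : A ⊓ Q ≤ C := le_inf inf_le_left (le_centralizer_iff.1 (hMU.trans hU0))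
  by_cases hCQ : C ≤ Q
  · have hfix : U ⊓ centralizer (C : Set G) = U :=
      inf_eq_left.2 (hU0.trans (centralizer_le fun x hx => ⟨hx.1, hCQ hx⟩))
    have e := (h.replace hU hUQ hAU).1.1
    rw [← hM, ← hC, hfix] at e
    have hle : M ≤ ⁅M, A⁆ := by
      rw [hM, commutator_le]
      intro u hu a ha
      obtain ⟨m, hm, f, hf, he⟩ := Subgroup.mem_sup_of_normal_right.1
        (show (⟨u, hu⟩ : U) ∈ M.subgroupOf U ⊔ (U ⊓ centralizer (A : Set G)).subgroupOf U from by
          haveI := hU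
          rw [← Subgroup.subgroupOf_sup hMU inf_le_left]
          exact mem_subgroupOf.2 (e ▸ hu))
      rw [show u = (m : G) * (f : G) from (congrArg Subtype.val he).symm]
      show ⁅(m : G) * (f : G), a⁆ ∈ ⁅⁅U, A⁆, A⁆
      rw [cmul_left, commutatorElement_eq_one_iff_mul_comm.2
        (mem_centralizer_iff.1 (mem_subgroupOf.1 hf).2 a ha).symm, mul_one, mul_inv_cancel, one_mul]
      exact commutator_mem_commutator (mem_subgroupOf.1 hm) ha
    by_contra hne
    have hMne : M ≠ ⊥ := fun e0 => hne (by rw [e0, commutator_bot_left])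
    exact (Cfsg.Lib.PGroup.commutator_lt_of_isPGroup (h.pT.to_le (hMU.trans (hUQ.trans h.QT)))
      (h.pT.to_le h.le_T) (normalizer_commutator hAU) hMne).not_ge hle
  · rw [commutator_eq_bot_iff_le_centralizer]
    have h1 : A ≤ C := by
      intro a ha
      obtain ⟨c, hc, q, hq, rfl⟩ := Subgroup.mem_sup_of_normal_right.1 (h.switch hU hUQ hAU hCQ ha)
      refine mul_mem hc (hA0 ⟨?_, hq⟩)
      have := A.mul_mem (A.inv_mem hc.1) ha
      rwa [inv_mul_cancel_left] at this
    exact le_centralizer_iff.1 (h1.trans inf_le_right)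

theorem Setup.quad_apply [Fact p.Prime] [Q.Normal] (h : Setup p T Q A) {U : Subgroup G}
    (hU : IsMulCommutative U) (hUQ : U ≤ Q) (hAU : A ≤ normalizer (U : Set G))
    (hU0 : U ≤ centralizer ((A ⊓ Q : Subgroup G) : Set G)) {u a b : G} (hu : u ∈ U) (ha : a ∈ A)
    (hb : b ∈ A) : ⁅⁅u, a⁆, b⁆ = 1 :=
  mem_bot.1 ((h.quad hU hUQ hAU hU0).le
    (commutator_mem_commutator (commutator_mem_commutator hu ha) hb))

end Cfsg.Lib.Local.JTransfer
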