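import Cfsg.Agent.Lib.Local.JTransfer.Cubic
import Cfsg.Prelude.Def_Amalgam

/-!
# The action on a subgroup of class two

`K` is a normal subgroup of `Q` of class at most two on whose central quotient `Q` acts trivially.
A suitable abelian subgroup of largest order acts on `K / Z(K)` with degree at most `4`, or with
degree at most `5` and quadratically on `Z(K)`.
-/

set_option autoImplicit false

namespace Cfsg.Lib.Local.JTransfer

open Subgroup Cfsg Cfsg.Lib.Local.GlaubermanZJ
open scoped commutatorElement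

universe u

variable {G : Type u} [Group G]

/-- `K` has class at most two and `[Q, K] ≤ Z(K)`. -/
structure Crit (Q K : Subgroup G) : Prop where
  le : K ≤ Q
  cls : ⁅K, K⁆ ≤ centralizer (K : Set G)
  act : ⁅Q, K⁆ ≤ K ⊓ centralizer (K : Set G)

variable {Q K A : Subgroup G}

theorem Crit.pair_mem [K.Normal] (hK : Crit Q K) {k l : G} (hk : k ∈ K) (hl : l ∈ K) :
    ⁅k, l⁆ ∈ K ⊓ centralizer (K : Set G) :=
  ⟨commutator_le_left K K (commutator_mem_commutator hk hl),
    hK.cls (commutator_mem_commutator hk hl)⟩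

theorem central {z k : G} (hz : z ∈ K ⊓ centralizer (K : Set G)) (hk : k ∈ K) : z * k = k * z :=
  (mem_centralizer_iff.1 hz.2 k hk).symm

theorem isMulCommutative_center (K : Subgroup G) :
    IsMulCommutative (K ⊓ centralizer (K : Set G) : Subgroup G) :=
  ⟨⟨fun x y => Subtype.ext (central x.2 y.2.1)⟩⟩

theorem cmul_right_central {d k l : G} (hk : k ∈ K)
    (h : ⁅d, l⁆ ∈ K ⊓ centralizer (K : Set G)) : ⁅d, k * l⁆ = ⁅d, k⁆ * ⁅d, l⁆ := by
  rw [cmul_right, ← central h hk, mul_inv_cancel_right]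

theorem cmul_left_central {k l w : G} (hk : k ∈ K)
    (h : ⁅l, w⁆ ∈ K ⊓ centralizer (K : Set G)) : ⁅k * l, w⁆ = ⁅l, w⁆ * ⁅k, w⁆ := by
  rw [cmul_left, ← central h hk, mul_inv_cancel_right]

/-- The elements of `K` whose commutators with `D` lie in the subgroup `N` of the centre of `K`. -/
def pairSub (K D N : Subgroup G) (hN : N ≤ K ⊓ centralizer (K : Set G)) : Subgroup G where
  carrier := {k | k ∈ K ∧ ∀ d ∈ D, ⁅d, k⁆ ∈ N}
  one_mem' := ⟨one_mem K, fun d _ => by rw [commutatorElement_one_right]; exact one_mem N⟩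
  mul_mem' := fun {k l} hk hl => ⟨mul_mem hk.1 hl.1, fun d hd => by
    rw [cmul_right_central hk.1 (hN (hl.2 d hd))]; exact mul_mem (hk.2 d hd) (hl.2 d hd)⟩
  inv_mem' := fun {k} hk => ⟨inv_mem hk.1, fun d hd => by
    have e : ⁅d, k⁻¹⁆ = k⁻¹ * ⁅d, k⁆⁻¹ * k := by simp only [commutatorElement_def]; group
    rw [e, mul_assoc, central (inv_mem (hN (hk.2 d hd))) hk.1, inv_mul_cancel_left]
    exact inv_mem (hk.2 d hd)⟩

/-- Commutators with elements commuting with `A` move down the series of `A`. -/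
theorem shift [K.Normal] {D S N : Subgroup G} (hA : IsMulCommutative A) (hD : D ≤ A) (hS : S ≤ K)
    (hN : N ≤ K ⊓ centralizer (K : Set G)) (h : ∀ d ∈ D, ∀ k ∈ S, ⁅d, k⁆ ∈ N) :
    ∀ d ∈ D, ∀ k ∈ ⁅S, A⁆, ⁅d, k⁆ ∈ ⁅N, A⁆ := by
  have hN' : ⁅N, A⁆ ≤ K ⊓ centralizer (K : Set G) :=
    (commutator_mono hN le_rfl).trans (commutator_le_left _ _)
  have key : ⁅S, A⁆ ≤ pairSub K D ⁅N, A⁆ hN' := by
    refine commutator_le.2 fun k hk a ha => ⟨?_, fun d hd => ?_⟩
    · exact commutator_le_left K A (commutator_mem_commutator (hS hk) ha)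
    · have he := hN (h d hd k hk)
      have hka : ⁅k, a⁆ ∈ K := commutator_le_left K A (commutator_mem_commutator (hS hk) ha)
      have hea : ⁅⁅d, k⁆, a⁆ ∈ ⁅N, A⁆ := commutator_mem_commutator (h d hd k hk) ha
      have e : d * ⁅k, a⁆ * d⁻¹ = ⁅⁅d, k⁆, a⁆ * ⁅k, a⁆ := by
        rw [conjugate_commutatorElement, cm hA (hD hd) ha, mul_inv_cancel_right,
          show d * k * d⁻¹ = ⁅d, k⁆ * k by simp only [commutatorElement_def]; group, cmul_left,
          central he hka, mul_inv_cancel_right]
        exact (central (hN' hea) hka).symm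
      rw [commutatorElement_def, e, mul_inv_cancel_right]
      exact hea
  exact fun d hd k hk => (key hk).2 d hd

/-- The action of `a` on a commutator of two elements of `K`. -/
theorem pair_expand [K.Normal] (hK : Crit Q K) {a k l : G} (hk : k ∈ K) (hl : l ∈ K) :
    ⁅a, ⁅k, l⁆⁆ = ⁅k, ⁅a, l⁆⁆ * ⁅⁅a, k⁆, ⁅a, l⁆⁆ * ⁅⁅a, k⁆, l⁆ := by
  have hk' : ⁅a, k⁆ ∈ K := mul_mem (‹K.Normal›.conj_mem k hk a) (inv_mem hk)
  have hl' : ⁅a, l⁆ ∈ K := mul_mem (‹K.Normal›.conj_mem l hl a) (inv_mem hl)
  have hc := fun {x y : G} (hx : x ∈ K ⊓ centralizer (K : Set G))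
    (hy : y ∈ K ⊓ centralizer (K : Set G)) => cm (isMulCommutative_center K) hx hy
  have e : a * ⁅k, l⁆ * a⁻¹ = ⁅k, ⁅a, l⁆⁆ * ⁅k, l⁆ * (⁅⁅a, k⁆, ⁅a, l⁆⁆ * ⁅⁅a, k⁆, l⁆) := by
    rw [conjugate_commutatorElement, show a * k * a⁻¹ = ⁅a, k⁆ * k by
        simp only [commutatorElement_def]; group,
      show a * l * a⁻¹ = ⁅a, l⁆ * l by simp only [commutatorElement_def]; group,
      cmul_left_central hk' (hK.pair_mem hk (mul_mem hl' hl)),
      cmul_right_central hl' (hK.pair_mem hk hl), cmul_right_central hl' (hK.pair_mem hk' hl)]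
  rw [commutatorElement_def a, e, mul_assoc ⁅k, ⁅a, l⁆⁆ ⁅k, l⁆,
    hc (hK.pair_mem hk hl) (mul_mem (hK.pair_mem hk' hl') (hK.pair_mem hk' hl)),
    ← mul_assoc, mul_inv_cancel_right, ← mul_assoc]

theorem iterCommutator_le [K.Normal] (A : Subgroup G) : ∀ n, iterCommutator K A n ≤ K
  | 0 => le_rfl
  | n + 1 => (commutator_mono (iterCommutator_le A n) le_rfl).trans (commutator_le_left K A)

theorem iterCommutator_antitone [K.Normal] (A : Subgroup G) {m n : ℕ} (h : m ≤ n) :
    iterCommutator K A n ≤ iterCommutator K A m := by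
  have hs : ∀ n, iterCommutator K A (n + 1) ≤ iterCommutator K A n := fun n => by
    induction n with
    | zero => exact commutator_le_left K A
    | succ n ih => exact commutator_mono ih le_rfl
  induction h with
  | refl => exact le_rfl
  | step _ ih => exact (hs _).trans ih

theorem iterCommutator_mono {U V B : Subgroup G} (hU : U ≤ V) (hB : A ≤ B) :
    ∀ n, iterCommutator U A n ≤ iterCommutator V B n
  | 0 => hU
  | n + 1 => commutator_mono (iterCommutator_mono hU hB n) hB

variable [Finite G]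

/-- The series of a `p`-group acting on a `p`-group reaches `⊥`. -/
theorem exists_iterCommutator_eq_bot {p : ℕ} [Fact p.Prime] [K.Normal] (hK : IsPGroup p K)
    (hA : IsPGroup p A) : ∃ n, iterCommutator K A n = ⊥ := by
  have hn : ∀ n, A ≤ normalizer ((iterCommutator K A n : Subgroup G) : Set G) := fun n => by
    induction n with
    | zero => show A ≤ normalizer (K : Set G); rw [normalizer_eq_top]; exact le_top
    | succ n ih => exact normalizer_commutator ih
  have key : ∀ n, iterCommutator K A n = ⊥ ∨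
      Nat.card (iterCommutator K A n) + n ≤ Nat.card K := fun n => by
    induction n with
    | zero => exact Or.inr le_rfl
    | succ n ih =>
      rcases ih with e | e
      · exact Or.inl (by show ⁅iterCommutator K A n, A⁆ = ⊥; rw [e, commutator_bot_left])
      · by_cases hb : iterCommutator K A n = ⊥
        · exact Or.inl (by show ⁅iterCommutator K A n, A⁆ = ⊥; rw [hb, commutator_bot_left])
        · have hlt := Cfsg.Lib.PGroup.commutator_lt_of_isPGroup
            (hK.to_le (iterCommutator_le A n)) hA (hn n) hb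
          have hcard : Nat.card (iterCommutator K A (n + 1)) < Nat.card (iterCommutator K A n) := by
            by_contra hle
            exact hlt.ne (eq_of_le_of_card_ge hlt.le (not_lt.1 hle))
          exact Or.inr (by omega)
  refine ⟨Nat.card K, (key _).resolve_right fun h => ?_⟩
  have : 0 < Nat.card (iterCommutator K A (Nat.card K)) := Nat.card_pos
  omega

/-- Isotropy of the series of `A` when `A` is quadratic on the centre of `K`. -/
theorem pairing [K.Normal] (hK : Crit Q K)
    (hquad : ∀ z ∈ K ⊓ centralizer (K : Set G), ∀ a ∈ A, ∀ b ∈ A, ⁅⁅z, a⁆, b⁆ = 1) {n : ℕ}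
    (hn : iterCommutator K A n ≤ K ⊓ centralizer (K : Set G)) :
    ∀ s, (∀ r, n + 1 ≤ r + s → ∀ k ∈ iterCommutator K A r, ∀ l ∈ iterCommutator K A s, ⁅k, l⁆ = 1) ∧
      (∀ r, n ≤ r + s → ∀ k ∈ iterCommutator K A r, ∀ l ∈ iterCommutator K A s,
        ⁅k, l⁆ ∈ centralizer (A : Set G)) := by
  have hR := fun r => iterCommutator_le (K := K) A r
  have hbase : ∀ r, n ≤ r → ∀ k ∈ iterCommutator K A r, ∀ l ∈ K, ⁅k, l⁆ = 1 := fun r hr k hk l hl =>
    commutatorElement_eq_one_iff_mul_comm.2 (central (hn (iterCommutator_antitone A hr hk)) hl)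
  intro s
  induction s with
  | zero =>
    refine ⟨fun r hr k hk l hl => hbase r (by omega) k hk l hl, fun r hr k hk l hl => ?_⟩
    rw [hbase r (by omega) k hk l hl]; exact one_mem _
  | succ s ih =>
    obtain ⟨ihP, ihQ⟩ := ih
    have hP : ∀ t r, n ≤ r + t → n ≤ r + s →
        ∀ k ∈ iterCommutator K A r, ∀ l ∈ iterCommutator K A (s + 1), ⁅k, l⁆ = 1 := by
      intro t
      induction t with
      | zero => exact fun r hr _ k hk l hl => hbase r (by omega) k hk l (hR _ hl)
      | succ t iht =>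
        intro r hrt hrs
        have key : ⁅iterCommutator K A s, A⁆ ≤ pairSub K (iterCommutator K A r) ⊥ bot_le := by
          refine commutator_le.2 fun l hl a ha =>
            ⟨hR (s + 1) (commutator_mem_commutator hl ha), fun k hk => mem_bot.2 ?_⟩
          have hk' : ⁅a, k⁆ ∈ iterCommutator K A (r + 1) := by
            rw [← commutatorElement_inv]; exact inv_mem (commutator_mem_commutator hk ha)
          have hl' : ⁅a, l⁆ ∈ iterCommutator K A (s + 1) := by
            rw [← commutatorElement_inv]; exact inv_mem (commutator_mem_commutator hl ha)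
          have e := pair_expand hK (a := a) (hR r hk) (hR s hl)
          rw [iht (r + 1) (by omega) (by omega) _ hk' _ hl', ihP (r + 1) (by omega) _ hk' _ hl,
            mul_one, mul_one, commutatorElement_eq_one_iff_mul_comm.2
              (mem_centralizer_iff.1 (ihQ r hrs k hk l hl) a ha)] at e
          have e2 : ⁅a, l⁆⁻¹ = ⁅l, a⁆ := commutatorElement_inv _ _
          have e3 : k * ⁅a, l⁆ = ⁅a, l⁆ * k := commutatorElement_eq_one_iff_mul_comm.1 e.symm
          rw [← e2]
          exact commutatorElement_eq_one_iff_mul_comm.2 ((show Commute k ⁅a, l⁆ from e3).inv_right).eq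
        exact fun k hk l hl => mem_bot.1 ((key hl).2 k hk)
    have hP' : ∀ r, n ≤ r + s →
        ∀ k ∈ iterCommutator K A r, ∀ l ∈ iterCommutator K A (s + 1), ⁅k, l⁆ = 1 :=
      fun r hr => hP n r (by omega) hr
    refine ⟨fun r hr => hP' r (by omega), fun r hr => ?_⟩
    have key : ⁅iterCommutator K A s, A⁆ ≤ pairSub K (iterCommutator K A r)
        ((K ⊓ centralizer (K : Set G)) ⊓ centralizer (A : Set G)) inf_le_left := by
      refine commutator_le.2 fun l hl a ha =>
        ⟨hR (s + 1) (commutator_mem_commutator hl ha), fun k hk => ?_⟩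
      have hk' : ⁅a, k⁆ ∈ iterCommutator K A (r + 1) := by
        rw [← commutatorElement_inv]; exact inv_mem (commutator_mem_commutator hk ha)
      have hl' : ⁅a, l⁆ ∈ iterCommutator K A (s + 1) := by
        rw [← commutatorElement_inv]; exact inv_mem (commutator_mem_commutator hl ha)
      have hla : ⁅l, a⁆ ∈ K := hR (s + 1) (commutator_mem_commutator hl ha)
      refine ⟨hK.pair_mem (hR r hk) hla, ?_⟩
      have hfix : ⁅a, ⁅k, l⁆⁆ ∈ centralizer (A : Set G) := by
        rw [← commutatorElement_inv]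
        refine inv_mem (mem_centralizer_iff.2 fun b hb => ?_)
        exact (commutatorElement_eq_one_iff_mul_comm.1
          (hquad _ (hK.pair_mem (hR r hk) (hR s hl)) a ha b hb)).symm
      rw [pair_expand hK (hR r hk) (hR s hl), hP' (r + 1) (by omega) _ hk' _ hl', mul_one] at hfix
      have h2 := mul_mem hfix (inv_mem (ihQ (r + 1) (by omega) _ hk' _ hl))
      rw [mul_inv_cancel_right] at h2
      have e : ⁅k, ⁅l, a⁆⁆ = ⁅k, ⁅a, l⁆⁆⁻¹ := by
        refine eq_inv_of_mul_eq_one_right ?_
        rw [← cmul_right_central (hR (s + 1) hl') (hK.pair_mem (hR r hk) hla), ← commutatorElement_inv a,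
          mul_inv_cancel, commutatorElement_one_right]
      rw [e]
      exact Subgroup.inv_mem _ h2
    exact fun k hk l hl => ((key hl).2 k hk).2

variable {p : ℕ} [Fact p.Prime] {T : Subgroup G}

theorem Setup.inf_act [Q.Normal] (_h : Setup p T Q A) (hK : Crit Q K) :
    ∀ d ∈ A ⊓ Q, ∀ k ∈ K, ⁅d, k⁆ ∈ K ⊓ centralizer (K : Set G) := fun _ hd _ hk =>
  hK.act (commutator_mem_commutator hd.2 hk)

/-- Quadratic on the centre: the degree on `K / Z(K)` is at most five. -/
theorem Setup.iterCommutator_five_le [Q.Normal] [K.Normal] (h : Setup p T Q A) (hK : Crit Q K)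
    (hquad : ∀ z ∈ K ⊓ centralizer (K : Set G), ∀ a ∈ A, ∀ b ∈ A, ⁅⁅z, a⁆, b⁆ = 1) :
    iterCommutator K A 5 ≤ K ⊓ centralizer (K : Set G) := by
  set Z := K ⊓ centralizer (K : Set G) with hZ
  have hA0 : ∀ d ∈ A ⊓ Q, ∀ k ∈ iterCommutator K A 2, ⁅d, k⁆ = 1 := by
    intro d hd k hk
    have h1 := shift h.comm inf_le_left le_rfl le_rfl (h.inf_act hK)
    have h2 := shift h.comm inf_le_left (commutator_le_left K A) (commutator_le_left _ _) h1 d hd k hk
    have h3 : ⁅⁅Z, A⁆, A⁆ ≤ ⊥ := commutator_le.2 fun x hx b hb => by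
      have hle : ⁅Z, A⁆ ≤ centralizer (A : Set G) := commutator_le.2 fun z hz a ha =>
        mem_centralizer_iff.2 fun e he =>
          (commutatorElement_eq_one_iff_mul_comm.1 (hquad z hz a ha e he)).symm
      exact mem_bot.2 (commutatorElement_eq_one_iff_mul_comm.2
        (mem_centralizer_iff.1 (hle hx) b hb).symm)
    exact mem_bot.1 (h3 h2)
  suffices key : ∀ n, iterCommutator K A n ≤ Z → iterCommutator K A 5 ≤ Z by
    obtain ⟨n, hn⟩ := exists_iterCommutator_eq_bot (K := K)
      (h.pT.to_le (hK.le.trans h.QT)) (h.pT.to_le h.le_T)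
    exact key n (hn ▸ bot_le)
  intro n
  induction n with
  | zero => exact fun hn => (iterCommutator_antitone A (Nat.zero_le 5)).trans hn
  | succ n ih =>
    intro hn
    by_cases hn5 : n + 1 ≤ 5
    · exact (iterCommutator_antitone A hn5).trans hn
    refine ih ?_
    obtain ⟨m, hm1, hm2⟩ : ∃ m, n + 1 ≤ 2 * m ∧ 2 * m ≤ n + 2 :=
      ⟨(n + 2) / 2, by omega, by omega⟩
    refine (iterCommutator_antitone A (show m + 2 ≤ n by omega)).trans ?_
    suffices hfix : iterCommutator K A (m + 1) ≤ centralizer (A : Set G) by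
      refine le_of_eq_of_le ?_ bot_le
      exact commutator_eq_bot_iff_le_centralizer.2 hfix
    refine commutator_le.2 fun y hy a ha => mem_centralizer_iff.2 fun b hb => ?_
    set U := closure ({y} ∪ ((fun a => ⁅y, a⁆) '' (A : Set G))) with hUdef
    have hgen : ∀ {a : G}, a ∈ A → ⁅y, a⁆ ∈ U := fun ha => subset_closure (Or.inr ⟨_, ha, rfl⟩)
    have hyU : y ∈ U := subset_closure (Or.inl rfl)
    have hUm : U ≤ iterCommutator K A m := (closure_le _).2 (by
      rintro _ (rfl | ⟨e, he, rfl⟩)
      · exact hy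
      · exact iterCommutator_antitone A (Nat.le_succ m) (commutator_mem_commutator hy he))
    have hUc : IsMulCommutative U := by
      have hP := pairing hK hquad hn
      have h01 : ∀ e ∈ A, y * ⁅y, e⁆ = ⁅y, e⁆ * y := fun e he =>
        commutatorElement_eq_one_iff_mul_comm.1
          ((hP (m + 1)).1 m (by omega) y hy _ (commutator_mem_commutator hy he))
      refine isMulCommutative_closure ?_
      rintro u (rfl | ⟨e, he, rfl⟩) v (rfl | ⟨e', he', rfl⟩)
      · rfl
      · exact h01 _ he'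
      · exact (h01 _ he).symm
      · exact commutatorElement_eq_one_iff_mul_comm.1 ((hP (m + 1)).1 (m + 1) (by omega) _
          (commutator_mem_commutator hy he) _ (commutator_mem_commutator hy he'))
    have hAU : A ≤ normalizer (U : Set G) := by
      intro e he
      refine mem_normalizer_fintype fun u hu => ?_
      have hle : U.map (MulAut.conj e).toMonoidHom ≤ U := by
        rw [hUdef, MonoidHom.map_closure, closure_le]
        rintro _ ⟨_, (rfl | ⟨e', he', rfl⟩), rfl⟩
        · show e * _ * e⁻¹ ∈ U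
          rw [conj_expand]
          exact mul_mem (inv_mem (hgen he)) hyU
        · show e * ⁅y, e'⁆ * e⁻¹ ∈ U
          rw [show e * ⁅y, e'⁆ * e⁻¹ = ⁅y, e⁆⁻¹ * ⁅y, e * e'⁆ by
            rw [cmul_right, inv_mul_cancel_left]]
          exact mul_mem (inv_mem (hgen he)) (hgen (mul_mem he he'))
      exact hle ⟨u, hu, rfl⟩
    have hU0 : U ≤ centralizer ((A ⊓ Q : Subgroup G) : Set G) := fun u hu =>
      mem_centralizer_iff.2 fun d hd => commutatorElement_eq_one_iff_mul_comm.1
        (hA0 d hd u (iterCommutator_antitone A (show 2 ≤ m by omega) (hUm hu)))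
    exact (commutatorElement_eq_one_iff_mul_comm.1 (h.quad_apply hUc
      ((hUm.trans (iterCommutator_le A m)).trans hK.le) hAU hU0 hyU ha hb)).symm

/-- Some abelian subgroup of largest order outside `Q` acts with small degrees on `K`. -/
theorem Setup.exists_degrees [Q.Normal] [K.Normal] (h : Setup p T Q A) (hK : Crit Q K) :
    ∃ B, B ≤ T ∧ ¬ B ≤ Q ∧
      ((iterCommutator K B 4 ≤ K ⊓ centralizer (K : Set G) ∧
          ∀ U V, Cfsg.IsChiefFactor U V → U ≤ K ⊓ centralizer (K : Set G) →
            ∀ g ∈ B, iterCommutator U (zpowers g) 3 ≤ V) ∨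
        (iterCommutator K B 5 ≤ K ⊓ centralizer (K : Set G) ∧
          ⁅⁅K ⊓ centralizer (K : Set G), B⁆, B⁆ = ⊥)) := by
  set Z := K ⊓ centralizer (K : Set G) with hZ
  have hZc : IsMulCommutative Z := isMulCommutative_center K
  have hZQ : Z ≤ Q := inf_le_left.trans hK.le
  have hAZ : ∀ {B : Subgroup G}, B ≤ normalizer (Z : Set G) := fun {B} => by
    rw [normalizer_eq_top]; exact le_top
  set Y := ⁅Z, A⁆ with hY
  have hYZ : Y ≤ Z := commutator_le_left Z A
  obtain ⟨⟨hfix, -⟩, hmax⟩ := h.replace hZc hZQ hAZ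
  rw [← hY] at hfix hmax
  set C := A ⊓ centralizer (Y : Set G) with hC
  set R := Z ⊓ centralizer (C : Set G) with hR
  by_cases hCQ : C ≤ Q
  · refine ⟨A, h.le_T, h.nle, Or.inl ⟨?_, fun U V hc hU g hg =>
      h.iterCommutator_three_le hZc hZQ hc hU hg⟩⟩
    have h1 : ∀ d ∈ A ⊓ Q, ∀ k ∈ iterCommutator K A 1, ⁅d, k⁆ ∈ Y :=
      shift (S := K) h.comm inf_le_left le_rfl le_rfl (h.inf_act hK)
    set Z1 := Z ⊓ centralizer ((A ⊓ Q : Subgroup G) : Set G) with hZ1
    have h2 : ∀ c ∈ C, ∀ k ∈ iterCommutator K A 1, ⁅c, k⁆ ∈ Z1 := by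
      intro c hc k hk
      have hcY := h1 c ⟨hc.1, hCQ hc⟩ k hk
      refine ⟨hYZ hcY, mem_centralizer_iff.2 fun d hd => commutatorElement_eq_one_iff_mul_comm.1 ?_⟩
      have hdY := h1 d hd k hk
      have hcd : c * d = d * c := cm h.comm hc.1 hd.1
      have ec : c * k * c⁻¹ = ⁅c, k⁆ * k := by simp only [commutatorElement_def]; group
      have ed : d * k * d⁻¹ = ⁅d, k⁆ * k := by simp only [commutatorElement_def]; group
      have hfixd : c * ⁅d, k⁆ * c⁻¹ = ⁅d, k⁆ := by
        rw [← mem_centralizer_iff.1 hc.2 _ hdY, mul_inv_cancel_right]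
      have e : d * ⁅c, k⁆ * d⁻¹ * (d * k * d⁻¹) = c * ⁅d, k⁆ * c⁻¹ * (c * k * c⁻¹) := by
        calc d * ⁅c, k⁆ * d⁻¹ * (d * k * d⁻¹) = d * (⁅c, k⁆ * k) * d⁻¹ := by group
          _ = d * (c * k * c⁻¹) * d⁻¹ := by rw [ec]
          _ = d * c * k * (d * c)⁻¹ := by group
          _ = c * d * k * (c * d)⁻¹ := by rw [hcd]
          _ = c * (d * k * d⁻¹) * c⁻¹ := by group
          _ = c * (⁅d, k⁆ * k) * c⁻¹ := by rw [ed]
          _ = _ := by group
      rw [hfixd, ec, ed, ← mul_assoc, ← mul_assoc, cm hZc (hYZ hdY) (hYZ hcY)] at e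
      rw [commutatorElement_def d, mul_inv_eq_one]
      exact mul_right_cancel (mul_right_cancel e)
    have h4 : ∀ c ∈ C, ∀ k ∈ iterCommutator K A 3, ⁅c, k⁆ = 1 := by
      intro c hc k hk
      have hCA : C ≤ A := inf_le_left
      have s1 := shift h.comm hCA (iterCommutator_le A 1) inf_le_left h2
      have s2 := shift h.comm hCA (iterCommutator_le A 2)
        ((commutator_mono inf_le_left le_rfl).trans (commutator_le_left _ _)) s1 c hc k hk
      have hq : ⁅⁅Z1, A⁆, A⁆ = ⊥ := by
        refine h.quad (abelian_of_le hZc inf_le_left) (inf_le_left.trans hZQ) (fun a ha => ?_) inf_le_right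
        refine mem_normalizer_fintype fun z hz => ⟨(mem_normalizer_iff.1 (hAZ ha) z).1 hz.1, ?_⟩
        refine mem_centralizer_iff.2 fun d hd => ?_
        have hda := cm h.comm hd.1 ha
        calc d * (a * z * a⁻¹) = (d * a) * z * a⁻¹ := by group
          _ = a * (d * z) * a⁻¹ := by rw [hda]; group
          _ = a * z * (d * a⁻¹) := by rw [mem_centralizer_iff.1 hz.2 d hd]; group
          _ = a * z * a⁻¹ * d := by rw [((show Commute d a from hda).inv_right).eq]; group
      exact mem_bot.1 (hq ▸ s2)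
    have h3 : iterCommutator K A 3 ≤ (C ⊓ K) ⊔ Z := by
      intro k hk
      have hkK := iterCommutator_le A 3 hk
      have hmem : k ∈ C ⊔ R := by
        refine hmax.mem_of_commute (h.QT (hK.le hkK)) fun x hx => ?_
        have hle : C ⊔ R ≤ centralizer ({k} : Set G) := sup_le
          (fun c hc => mem_centralizer_singleton_iff.2
            (commutatorElement_eq_one_iff_mul_comm.1 (h4 c hc k hk)))
          (fun z hz => mem_centralizer_singleton_iff.2 (central hz.1 hkK))
        exact (mem_centralizer_singleton_iff.1 (hle hx)).symm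
      obtain ⟨c, hc, z, hz, rfl⟩ := Cfsg.Lib.Coprime.exists_mul_of_mem_sup
        (N := C) (A := R) (inf_le_right.trans (centralizer_le_normalizer _)) hmem
      refine mul_mem (mem_sup_left ⟨hc, ?_⟩) (mem_sup_right hz.1)
      have := K.mul_mem hkK (K.inv_mem hz.1.1)
      rwa [mul_inv_cancel_right] at this
    refine commutator_le.2 fun k hk a ha => ?_
    obtain ⟨c, hc, z, hz, rfl⟩ := Subgroup.mem_sup_of_normal_right.1 (h3 hk)
    rw [cmul_left, commutatorElement_eq_one_iff_mul_comm.2 (cm h.comm hc.1.1 ha), mul_one]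
    exact (inferInstance : Z.Normal).conj_mem _ (comm_mem_of_le_normalizer hAZ hz ha) c
  · have hRQ : R ≤ Q := inf_le_left.trans hZQ
    have hle : C ⊔ R ≤ A ⊔ Q :=
      sup_le (inf_le_left.trans le_sup_left) (hRQ.trans le_sup_right)
    have h' : Setup p T Q (C ⊔ R) := ⟨h.pT, h.QT, hmax, fun hh => hCQ (le_sup_left.trans hh),
      fun B hB hBQ hBA => hle.trans (sup_le
        (h.min B hB hBQ (hBA.trans (sup_le hle le_sup_right))) le_sup_right)⟩
    have hYR : ⁅Z, C ⊔ R⁆ ≤ centralizer ((C ⊔ R : Subgroup G) : Set G) := by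
      have hYle : ⁅Z, C ⊔ R⁆ ≤ Y := by
        refine commutator_le.2 fun y hy x hx => ?_
        obtain ⟨c, hc, z, hz, rfl⟩ := Cfsg.Lib.Coprime.exists_mul_of_mem_sup
          (N := C) (A := R) (inf_le_right.trans (centralizer_le_normalizer _)) hx
        rw [cmul_right, commutatorElement_eq_one_iff_mul_comm.2 (cm hZc hy hz.1), mul_one,
          mul_inv_cancel, mul_one]
        exact commutator_mem_commutator hy hc.1
      refine hYle.trans (le_centralizer_iff.1 (sup_le inf_le_right ?_))
      exact fun z hz => mem_centralizer_iff.2 fun y hy => cm hZc (hYZ hy) hz.1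
    refine ⟨C ⊔ R, h'.le_T, h'.nle, Or.inr ⟨h'.iterCommutator_five_le hK fun z hz a ha b hb =>
      commutatorElement_eq_one_iff_mul_comm.2
        (mem_centralizer_iff.1 (hYR (commutator_mem_commutator hz ha)) b hb).symm, ?_⟩⟩
    exact commutator_eq_bot_iff_le_centralizer.2 hYR

end Cfsg.Lib.Local.JTransfer
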