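import Cfsg.Agent.Lib.Local.JTransfer.Basic
import Cfsg.Agent.Lib.Sig.KInfDegree
import Cfsg.Agent.Lib.Coprime.Conjugacy

/-!
# Cubic action on an abelian normal subgroup

If `[U, Q] ≤ V` for normal subgroups `V` and `U ≤ Q` with `U` abelian, then `A` acts cubically on
`U` modulo `V`.
-/

set_option autoImplicit false

namespace Cfsg.Lib.Local.JTransfer

open Subgroup Cfsg Cfsg.Lib.Local.GlaubermanZJ
open scoped commutatorElement

universe u

variable {G : Type u} [Group G] [Finite G]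

theorem card_map_cosets (φ : G → G) {B D K F : Subgroup G} (hD : D ≤ B) (hF : F ≤ K)
    (hφ : ∀ b ∈ B, φ b ∈ K)
    (hiff : ∀ a ∈ B, ∀ b ∈ B, ((φ a)⁻¹ * φ b ∈ F ↔ a⁻¹ * b ∈ D)) :
    Nat.card B * Nat.card F ≤ Nat.card K * Nat.card D ∧
      ((∀ k ∈ K, ∃ b ∈ B, (φ b)⁻¹ * k ∈ F) → Nat.card K * Nat.card D ≤ Nat.card B * Nat.card F) ∧
      (Nat.card K * Nat.card D ≤ Nat.card B * Nat.card F →
        ∀ k ∈ K, ∃ b ∈ B, (φ b)⁻¹ * k ∈ F) := by
  classical
  let f : B ⧸ D.subgroupOf B → K ⧸ F.subgroupOf K :=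
    Quotient.map' (fun b => ⟨φ b, hφ b b.2⟩) fun a b hab => by
      rw [QuotientGroup.leftRel_apply] at hab ⊢
      exact mem_subgroupOf.2 ((hiff a a.2 b b.2).2 (mem_subgroupOf.1 hab))
  have hf : Function.Injective f := by
    intro q q'
    induction q using Quotient.inductionOn' with | h a => ?_
    induction q' using Quotient.inductionOn' with | h b => ?_
    intro h
    have h' : (φ a)⁻¹ * φ b ∈ F := by
      have := QuotientGroup.leftRel_apply.1 (Quotient.eq''.1 h)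
      exact mem_subgroupOf.1 this
    exact Quotient.eq''.2 (QuotientGroup.leftRel_apply.2
      (mem_subgroupOf.2 ((hiff a a.2 b b.2).1 h')))
  have h1 := card_eq_card_quotient_mul_card_subgroup (D.subgroupOf B)
  have h2 := card_eq_card_quotient_mul_card_subgroup (F.subgroupOf K)
  rw [Nat.card_congr (subgroupOfEquivOfLe hD).toEquiv] at h1
  rw [Nat.card_congr (subgroupOfEquivOfLe hF).toEquiv] at h2
  refine ⟨?_, fun hs => ?_, fun hle => ?_⟩
  · rw [h1, h2, mul_assoc, mul_assoc, mul_comm (Nat.card F) (Nat.card D)]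
    exact Nat.mul_le_mul_right _ (Nat.card_le_card_of_injective f hf)
  · have hsurj : Function.Surjective f := by
      intro q
      induction q using Quotient.inductionOn' with | h k => ?_
      obtain ⟨b, hb, hbk⟩ := hs k k.2
      exact ⟨Quotient.mk'' ⟨b, hb⟩, Quotient.eq''.2 (QuotientGroup.leftRel_apply.2
        (mem_subgroupOf.2 hbk))⟩
    rw [h1, h2, ← Nat.card_congr (Equiv.ofBijective f ⟨hf, hsurj⟩)]
    exact le_of_eq (by ring)
  · intro k hk
    have hcard : Nat.card (K ⧸ F.subgroupOf K) ≤ Nat.card (B ⧸ D.subgroupOf B) := by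
      rw [h1, h2] at hle
      refine Nat.le_of_mul_le_mul_right ?_ (Nat.mul_pos (Nat.card_pos (α := D)) (Nat.card_pos (α := F)))
      calc _ = Nat.card (K ⧸ F.subgroupOf K) * Nat.card F * Nat.card D := by ring
        _ ≤ _ := hle
        _ = _ := by ring
    obtain ⟨q, hq⟩ := (hf.bijective_of_nat_card_le hcard).2 (Quotient.mk'' ⟨k, hk⟩)
    induction q using Quotient.inductionOn' with | h b => ?_
    have := QuotientGroup.leftRel_apply.1 (Quotient.eq''.1 hq)
    exact ⟨b, b.2, mem_subgroupOf.1 this⟩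

/-- A subgroup which is contained in its commutator with a `p`-subgroup modulo `V` lies in `V`. -/
theorem le_of_le_commutator_sup {p : ℕ} [Fact p.Prime] {M A V : Subgroup G} [V.Normal]
    (hM : IsPGroup p M) (hA : IsPGroup p A) (hAM : A ≤ normalizer (M : Set G))
    (h : M ≤ ⁅M, A⁆ ⊔ V) : M ≤ V := by
  set mk := QuotientGroup.mk' V with hmk
  have hV : V.map mk = ⊥ := (Subgroup.map_eq_bot_iff V).2 (QuotientGroup.ker_mk' V).ge
  by_contra hne
  have hne' : M.map mk ≠ ⊥ := by rwa [Ne, Subgroup.map_eq_bot_iff, QuotientGroup.ker_mk']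
  have hle : M.map mk ≤ ⁅M.map mk, A.map mk⁆ := by
    have := map_mono (f := mk) h
    rwa [Subgroup.map_sup, hV, sup_bot_eq, map_commutator] at this
  exact (Cfsg.Lib.PGroup.commutator_lt_of_isPGroup (hM.map mk) (hA.map mk)
    ((map_mono hAM).trans (le_normalizer_map mk)) hne').not_ge hle

variable {p : ℕ} {T Q A : Subgroup G}

/-- `A` acts cubically on an abelian normal subgroup of `Q` modulo `V` if `[U, Q] ≤ V`. -/
theorem Setup.cubic [Fact p.Prime] [Q.Normal] (h : Setup p T Q A) {U V : Subgroup G} [U.Normal]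
    [V.Normal] (hU : IsMulCommutative U) (hUQ : U ≤ Q) (hUV : ⁅U, Q⁆ ≤ V) {x a b c : G}
    (hx : x ∈ U) (ha : a ∈ A) (hb : b ∈ A) (hc : c ∈ A) : ⁅⁅⁅x, a⁆, b⁆, c⁆ ∈ V := by
  have hAU : A ≤ normalizer (U : Set G) := by rw [normalizer_eq_top]; exact le_top
  have hA := h.comm
  have hxA : ∀ {a : G}, a ∈ A → ⁅x, a⁆ ∈ U := fun ha => comm_mem_of_le_normalizer hAU hx ha
  set M := closure ((fun a => ⁅x, a⁆) '' (A : Set G)) with hMdef
  have hgen : ∀ {a : G}, a ∈ A → ⁅x, a⁆ ∈ M := fun ha => subset_closure ⟨_, ha, rfl⟩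
  have hMU : M ≤ U := (closure_le _).2 (by rintro _ ⟨a, ha, rfl⟩; exact hxA ha)
  have hMQ : M ≤ Q := hMU.trans hUQ
  have hMc : IsMulCommutative M := abelian_of_le hU hMU
  have hAM : A ≤ normalizer (M : Set G) := by
    intro a ha
    refine mem_normalizer_fintype fun m hm => ?_
    have e : M.map (MulAut.conj a).toMonoidHom ≤ M := by
      rw [hMdef, MonoidHom.map_closure, closure_le]
      rintro _ ⟨_, ⟨b, hb, rfl⟩, rfl⟩
      show a * ⁅x, b⁆ * a⁻¹ ∈ M
      have e1 : a * ⁅x, b⁆ * a⁻¹ = ⁅x, a⁆⁻¹ * ⁅x, a * b⁆ := by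
        rw [cmul_right, inv_mul_cancel_left]
      rw [e1]
      exact mul_mem (inv_mem (hgen ha)) (hgen (mul_mem ha hb))
    exact e ⟨m, hm, rfl⟩
  set F := M ⊓ centralizer (A : Set G) with hF
  set D := A ⊓ centralizer (M : Set G) with hD
  set W := ⁅M, A⁆ ⊔ F with hW
  have hM2 : ⁅M, A⁆ ≤ M := le_normalizer_iff_commutator_le_left.1 hAM
  have hWM : W ≤ M := sup_le hM2 inf_le_left
  have hMAF : M ⊓ A ≤ F := inf_le_inf_left M (le_centralizer_self hA)
  have hswap : ∀ {a b : G}, a ∈ A → b ∈ A → ⁅⁅x, b⁆, a⁆ = ⁅⁅x, a⁆, b⁆ := fun ha hb =>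
    comm_swap hU hAU ha hb (cm hA ha hb) (hxA ha) (hxA hb)
  -- cosets of `D` and of `F`
  have hconj : ∀ {a m : G}, a ∈ A → (a * m * a⁻¹ ∈ F ↔ m ∈ F) := by
    intro a m ha
    have key : ∀ {a m : G}, a ∈ A → m ∈ F → a * m * a⁻¹ = m := fun ha hm => by
      rw [mem_centralizer_iff.1 hm.2 _ ha, mul_inv_cancel_right]
    refine ⟨fun hm => ?_, fun hm => by rw [key ha hm]; exact hm⟩
    have e := key (A.inv_mem ha) hm
    rw [show a⁻¹ * (a * m * a⁻¹) * a⁻¹⁻¹ = m by group] at e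
    rw [e]
    exact hm
  have hDF : ∀ {d : G}, d ∈ A → (⁅x, d⁆ ∈ F ↔ d ∈ D) := by
    intro d hd
    constructor
    · intro hdF
      refine ⟨hd, ?_⟩
      show d ∈ centralizer (M : Set G)
      rw [hMdef, centralizer_closure]
      refine mem_centralizer_iff.2 ?_
      rintro _ ⟨e, he, rfl⟩
      refine commutatorElement_eq_one_iff_mul_comm.1 ((hswap hd he).trans ?_)
      exact commutatorElement_eq_one_iff_mul_comm.2 (mem_centralizer_iff.1 hdF.2 e he).symm
    · intro hdD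
      refine ⟨hgen hd, mem_centralizer_iff.2 fun e he => ?_⟩
      refine (commutatorElement_eq_one_iff_mul_comm.1 ((hswap he hd).trans ?_)).symm
      exact commutatorElement_eq_one_iff_mul_comm.2 (mem_centralizer_iff.1 hdD.2 _ (hgen he))
  have hiff : ∀ {a b : G}, a ∈ A → b ∈ A →
      ((⁅x, a⁆)⁻¹ * ⁅x, b⁆ ∈ F ↔ a⁻¹ * b ∈ D) := by
    intro a b ha hb
    have e : (⁅x, a⁆)⁻¹ * ⁅x, b⁆ = a * ⁅x, a⁻¹ * b⁆ * a⁻¹ := by
      conv_lhs => rw [show b = a * (a⁻¹ * b) by group, cmul_right, inv_mul_cancel_left]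
    rw [e, hconj ha, hDF (mul_mem (inv_mem ha) hb)]
  have hDA : D ≤ A := inf_le_left
  have hFM : F ≤ M := inf_le_left
  -- every element of `M` is a commutator with `x` up to `F`
  have hFA : F ≤ A := fun m hm => h.mem_of_centralizer (hMQ hm.1) hm.2
  have hMD : Nat.card M * Nat.card D ≤ Nat.card A * Nat.card F := by
    refine (Cfsg.Lib.Local.Timmesfeld.card_mul_card_le M D).trans ?_
    rw [mul_comm (Nat.card A)]
    refine Nat.mul_le_mul (card_le_of_le ((inf_le_inf_left M inf_le_left).trans hMAF)) ?_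
    exact h.max.2.2 _ (sup_le (hMQ.trans h.QT) (hDA.trans h.le_T))
      (abelian_sup hMc (abelian_of_le hA hDA) fun m hm d hd => mem_centralizer_iff.1 hd.2 m hm)
  have hsurj := (card_map_cosets (fun a => ⁅x, a⁆) hDA hFM (fun a ha => hgen ha)
    (fun a ha b hb => hiff ha hb)).2.2 hMD
  -- the elements with commutator in `W`
  have hadd : ∀ {a b : G}, a ∈ A → b ∈ A →
      ⁅x, a * b⁆ = ⁅x, a⁆ * ⁅⁅x, b⁆, a⁆⁻¹ * ⁅x, b⁆ := fun ha hb => by
    rw [cmul_right, conj_expand, ← mul_assoc]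
  have hM2gen : ∀ {a b : G}, a ∈ A → b ∈ A → ⁅⁅x, b⁆, a⁆ ∈ W := fun ha hb =>
    mem_sup_left (commutator_mem_commutator (hgen hb) ha)
  let A2 : Subgroup G :=
    { carrier := {a | a ∈ A ∧ ⁅x, a⁆ ∈ W}
      one_mem' := ⟨one_mem A, by rw [commutatorElement_one_right]; exact one_mem W⟩
      mul_mem' := fun {a b} ha hb => ⟨mul_mem ha.1 hb.1, by
        rw [hadd ha.1 hb.1]
        exact mul_mem (mul_mem ha.2 (inv_mem (hM2gen ha.1 hb.1))) hb.2⟩
      inv_mem' := fun {a} ha => ⟨inv_mem ha.1, by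
        have e := hadd ha.1 (A.inv_mem ha.1)
        rw [mul_inv_cancel, commutatorElement_one_right] at e
        rw [eq_inv_of_mul_eq_one_right e.symm]
        exact inv_mem (mul_mem ha.2 (inv_mem (hM2gen ha.1 (A.inv_mem ha.1))))⟩ }
  have hA2A : A2 ≤ A := fun a ha => ha.1
  have hWgen : ∀ w ∈ W, ∃ d ∈ A2, (⁅x, d⁆)⁻¹ * w ∈ F := by
    intro w hw
    obtain ⟨d, hd, hdw⟩ := hsurj w (hWM hw)
    refine ⟨d, ⟨hd, ?_⟩, hdw⟩
    have := mul_mem hw (inv_mem (mem_sup_right (S := ⁅M, A⁆) hdw))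
    rwa [mul_inv_rev, inv_inv, mul_inv_cancel_left] at this
  have hmodV : ∀ {m q : G}, m ∈ U → q ∈ Q → ⁅m, q⁆ ∈ V := fun hm hq =>
    hUV (commutator_mem_commutator hm hq)
  -- it suffices that `A` centralizes `[M, A]` modulo `V`
  suffices key : ∀ w ∈ ⁅M, A⁆, ⁅w, c⁆ ∈ V from key _ (commutator_mem_commutator (hgen ha) hb)
  intro w hw
  set C := A ⊓ centralizer ((⁅M, A⁆ : Subgroup G) : Set G) with hC
  by_cases hCQ : ¬ C ≤ Q
  · obtain ⟨d, hd, q, hq, rfl⟩ :=
      Subgroup.mem_sup_of_normal_right.1 (h.switch hMc hMQ hAM hCQ hc)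
    rw [cmul_right, commutatorElement_eq_one_iff_mul_comm.2
      (mem_centralizer_iff.1 hd.2 w hw), one_mul]
    exact ‹V.Normal›.conj_mem _ (hmodV (hMU (hM2 hw)) hq) d
  push Not at hCQ
  have hrep := (h.replace hMc hMQ hAM).1
  rw [← hC, ← hF] at hrep
  obtain ⟨hfix, hcard⟩ := hrep
  rw [← hW] at hfix
  rw [hfix] at hcard
  have hWC : W ≤ centralizer (C : Set G) := hfix.ge.trans inf_le_right
  have hDA2 : D ≤ A2 := fun d hd => ⟨hd.1, mem_sup_right ((hDF hd.1).2 hd)⟩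
  have hDC : D ≤ C := inf_le_inf_left A (centralizer_le hM2)
  set E := M ⊓ centralizer ((A2 ⊔ C : Subgroup G) : Set G) with hE
  have hFE : F ≤ E := inf_le_inf_left M (centralizer_le (sup_le hA2A inf_le_left))
  have hκ : ∀ d ∈ A2 ⊓ C, ⁅x, d⁆ ∈ E := by
    intro d hd
    have hle : A2 ⊔ C ≤ centralizer ({⁅x, d⁆} : Set G) := by
      refine sup_le (fun e he => ?_) (fun e he => ?_)
      · have h1 : ⁅⁅x, d⁆, e⁆ = 1 := (hswap he.1 hd.1.1).trans
          (commutatorElement_eq_one_iff_mul_comm.2 (mem_centralizer_iff.1 (hWC he.2) d hd.2).symm)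
        exact mem_centralizer_singleton_iff.2 (commutatorElement_eq_one_iff_mul_comm.1 h1).symm
      · exact mem_centralizer_singleton_iff.2 (mem_centralizer_iff.1 (hWC hd.1.2) e he)
    exact ⟨hgen hd.1.1, mem_centralizer_iff.2 fun e he => mem_centralizer_singleton_iff.1 (hle he)⟩
  have c1 := (card_map_cosets (fun a => ⁅x, a⁆) (le_inf hDA2 hDC) hFE hκ
    (fun a ha b hb => hiff (hA2A ha.1) (hA2A hb.1))).1
  have c2 := (card_map_cosets (fun a => ⁅x, a⁆) hDA2 le_sup_right (fun a ha => ha.2)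
    (fun a ha b hb => hiff (hA2A ha) (hA2A hb))).2.1 hWgen
  have c3 := Cfsg.Lib.Local.Timmesfeld.card_mul_card_le A2 C
  have c4 := Cfsg.Lib.Local.Timmesfeld.card_mul_card_le E (A2 ⊔ C)
  have c5 : Nat.card (E ⊓ (A2 ⊔ C) : Subgroup G) ≤ Nat.card F :=
    card_le_of_le ((inf_le_inf inf_le_left (sup_le hA2A inf_le_left)).trans hMAF)
  have hAC : A2 ⊔ C ≤ A := sup_le hA2A inf_le_left
  have hbig : Nat.card A ≤ Nat.card (E ⊔ (A2 ⊔ C) : Subgroup G) := by
    have e1 : Nat.card A * Nat.card F * Nat.card D ≤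
        Nat.card (A2 ⊓ C : Subgroup G) * Nat.card (A2 ⊔ C : Subgroup G) * Nat.card F := by
      calc Nat.card A * Nat.card F * Nat.card D
          = Nat.card C * (Nat.card W * Nat.card D) := by rw [hcard]; ring
        _ ≤ Nat.card C * (Nat.card A2 * Nat.card F) := Nat.mul_le_mul_left _ c2
        _ = Nat.card A2 * Nat.card C * Nat.card F := by ring
        _ ≤ _ := Nat.mul_le_mul_right _ c3
    have e2 : Nat.card A * Nat.card F * Nat.card D ≤
        Nat.card E * Nat.card (A2 ⊔ C : Subgroup G) * Nat.card D := by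
      calc _ ≤ _ := e1
        _ = Nat.card (A2 ⊔ C : Subgroup G) * (Nat.card (A2 ⊓ C : Subgroup G) * Nat.card F) := by ring
        _ ≤ Nat.card (A2 ⊔ C : Subgroup G) * (Nat.card E * Nat.card D) := Nat.mul_le_mul_left _ c1
        _ = _ := by ring
    have e3 := (Nat.le_of_mul_le_mul_right e2 Nat.card_pos).trans
      (c4.trans (Nat.mul_le_mul_right _ c5))
    rw [mul_comm] at e3
    exact Nat.le_of_mul_le_mul_left e3 Nat.card_pos
  by_cases hA2Q : A2 ≤ Q
  · obtain ⟨d, hd, hdw⟩ := hWgen w (mem_sup_left hw)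
    have e : w = ⁅x, d⁆ * ((⁅x, d⁆)⁻¹ * w) := (mul_inv_cancel_left _ _).symm
    rw [e, cmul_left, commutatorElement_eq_one_iff_mul_comm.2
      (mem_centralizer_iff.1 hdw.2 c hc).symm, mul_one, mul_inv_cancel, one_mul]
    exact commutator_le_left V (zpowers c)
      (commutator_mem_commutator (hmodV hx (hA2Q hd)) (mem_zpowers c))
  · have hM8 : IsMaxAbIn T (E ⊔ (A2 ⊔ C)) := h.isMaxAb
      (sup_le ((inf_le_left.trans hMQ).trans h.QT) (hAC.trans h.le_T))
      (abelian_sup (abelian_of_le hMc inf_le_left) (abelian_of_le hA hAC)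
        fun e he y hy => (mem_centralizer_iff.1 he.2 y hy).symm) hbig
    have hcov : A ≤ A2 ⊔ Q :=
      (h.min _ hM8 (fun hle => hA2Q ((le_sup_left.trans le_sup_right).trans hle))
        (sup_le ((inf_le_left.trans hMQ).trans le_sup_right) (hAC.trans le_sup_left))).trans
        (sup_le (sup_le ((inf_le_left.trans hMQ).trans le_sup_right)
          (sup_le le_sup_left (hCQ.trans le_sup_right))) le_sup_right)
    have hMWV : M ≤ W ⊔ V := by
      refine (closure_le _).2 ?_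
      rintro _ ⟨e, he, rfl⟩
      obtain ⟨d, hd, q, hq, rfl⟩ := Subgroup.mem_sup_of_normal_right.1 (hcov he)
      show ⁅x, d * q⁆ ∈ W ⊔ V
      rw [cmul_right]
      exact mul_mem (mem_sup_left hd.2) (mem_sup_right (‹V.Normal›.conj_mem _ (hmodV hx hq) d))
    have hM2V : ⁅M, A⁆ ≤ V := by
      refine le_of_le_commutator_sup (h.pT.to_le ((hM2.trans hMQ).trans h.QT))
        (h.pT.to_le h.le_T) (normalizer_commutator hAM) ?_
      refine commutator_le.2 fun m hm e he => ?_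
      obtain ⟨w₁, hw₁, v, hv, rfl⟩ := Subgroup.mem_sup_of_normal_right.1 (hMWV hm)
      obtain ⟨m₂, hm₂, f, hf, rfl⟩ := Cfsg.Lib.Coprime.exists_mul_of_mem_sup
        (N := ⁅M, A⁆) (A := F) (inf_le_left.trans ((le_centralizer_self hMc).trans
          ((centralizer_le hM2).trans (centralizer_le_normalizer _)))) hw₁
      rw [cmul_left]
      refine mul_mem (mem_sup_right (‹V.Normal›.conj_mem _ ?_ _)) ?_
      · exact commutator_le_left V (zpowers e) (commutator_mem_commutator hv (mem_zpowers e))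
      · rw [cmul_left, commutatorElement_eq_one_iff_mul_comm.2
          (mem_centralizer_iff.1 hf.2 e he).symm, mul_one, mul_inv_cancel, one_mul]
        exact mem_sup_left (commutator_mem_commutator hm₂ he)
    exact commutator_le_left V (zpowers c) (commutator_mem_commutator (hM2V hw) (mem_zpowers c))

/-- The cubic bound on chief factors. -/
theorem Setup.iterCommutator_three_le [Fact p.Prime] [Q.Normal] (h : Setup p T Q A)
    {Z U V : Subgroup G} (hZ : IsMulCommutative Z) (hZQ : Z ≤ Q) (hc : Cfsg.IsChiefFactor U V)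
    (hUZ : U ≤ Z) {g : G} (hg : g ∈ A) : Cfsg.iterCommutator U (zpowers g) 3 ≤ V := by
  haveI := hc.2.1
  haveI := hc.2.2.1
  have hU := abelian_of_le hZ hUZ
  have hUQ := hUZ.trans hZQ
  have hAU : A ≤ normalizer (U : Set G) := by rw [normalizer_eq_top]; exact le_top
  have hUV := Cfsg.Lib.Sig.commutator_chiefFactor_le hc (P := Q)
    (h.pT.to_le (hUQ.trans h.QT)) (h.pT.to_le h.QT)
  refine Cfsg.Lib.Sig.iterCommutator_le_of_iterate ((commutator_mono le_rfl hUQ).trans hUV) fun y hy => ?_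
  have hflip : ∀ {m : G}, m ∈ U → g * m * g⁻¹ * m⁻¹ = ⁅m⁻¹, g⁆ := fun {m} hm => by
    rw [show ⁅m⁻¹, g⁆ = m⁻¹ * (g * m * g⁻¹) by simp only [commutatorElement_def]; group]
    exact cm hU (conj_mem_of_le_normalizer hAU hm hg) (inv_mem hm)
  have hinv : ∀ {m : G}, m ∈ U → ⁅m⁻¹, g⁆⁻¹ = ⁅m, g⁆ := fun {m} hm => by
    rw [show ⁅m⁻¹, g⁆⁻¹ = g * m⁻¹ * g⁻¹ * m by simp only [commutatorElement_def]; group,
      show ⁅m, g⁆ = m * (g * m⁻¹ * g⁻¹) by simp only [commutatorElement_def]; group]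
    exact cm hU (conj_mem_of_le_normalizer hAU (inv_mem hm) hg) hm
  have m1 : ⁅y⁻¹, g⁆ ∈ U := comm_mem_of_le_normalizer hAU (inv_mem hy) hg
  show g * (g * (g * y * g⁻¹ * y⁻¹) * g⁻¹ * (g * y * g⁻¹ * y⁻¹)⁻¹) * g⁻¹ *
    (g * (g * y * g⁻¹ * y⁻¹) * g⁻¹ * (g * y * g⁻¹ * y⁻¹)⁻¹)⁻¹ ∈ V
  rw [hflip hy, hflip m1, hinv hy]
  have m2 : ⁅⁅y, g⁆, g⁆ ∈ U :=
    comm_mem_of_le_normalizer hAU (comm_mem_of_le_normalizer hAU hy hg) hg
  rw [hflip m2]
  have h3 := h.cubic hU hUQ hUV hy hg hg hg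
  rw [← inv_inv ⁅⁅⁅y, g⁆, g⁆⁻¹, g⁆, hinv m2]
  exact inv_mem h3

end Cfsg.Lib.Local.JTransfer
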