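import Cfsg.Agent.Lib.Local.JTransfer.ClassTwo
import Cfsg.Agent.Lib.Sig.TransferApps
import Cfsg.Agent.Lib.Sig.KInfApps
import Cfsg.Agent.Lib.Thompson.NormalComplementAbelian

/-!
# Control of transfer by the normalizer of the Thompson subgroup

For `p ≥ 7` a group in which the Thompson subgroup `J(T)` of a Sylow subgroup is not normal has an
element of `T` outside `O_p` with degree at most `p - 1` on the chief factors inside `O_p`; hence the
normalizer of `J(T)` controls transfer.
-/

set_option autoImplicit false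

namespace Cfsg.Lib.Local.JTransfer

open Subgroup Cfsg Cfsg.Lib.Local.GlaubermanZJ
open scoped commutatorElement

universe u

variable {p : ℕ} [Fact p.Prime]

/-- A bound on `K / Z` and one on the factors inside `Z` give a bound on the factors inside `K`. -/
theorem iterCommutator_le_of_center {G : Type u} [Group G] {K Z : Subgroup G} [Z.Normal]
    {g : G} {i j : ℕ} (hji : j ≤ i) (hi : iterCommutator K (zpowers g) i ≤ Z)
    (hj : ∀ U V, Cfsg.IsChiefFactor U V → U ≤ Z → iterCommutator U (zpowers g) j ≤ V)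
    {U V : Subgroup G} (hc : Cfsg.IsChiefFactor U V) (hU : U ≤ K) :
    iterCommutator U (zpowers g) i ≤ V := by
  haveI := hc.2.1
  haveI := hc.2.2.1
  by_cases hZV : U ⊓ Z ≤ V
  · exact (le_inf (iterCommutator_le (zpowers g) i)
      ((iterCommutator_mono hU le_rfl i).trans hi)).trans hZV
  refine (iterCommutator_antitone (zpowers g) hji).trans ?_
  have hsup : (U ⊓ Z) ⊔ V = U := by
    rcases hc.2.2.2 ((U ⊓ Z) ⊔ V) inferInstance le_sup_right (sup_le inf_le_left hc.1.le) with e | e
    · exact absurd (le_sup_left.trans e.le) hZV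
    · exact e
  have hc' : Cfsg.IsChiefFactor (U ⊓ Z) (V ⊓ (U ⊓ Z)) := by
    refine ⟨lt_of_le_not_ge inf_le_right fun h => hZV (h.trans inf_le_left), inferInstance,
      inferInstance, fun N hN h1 h2 => ?_⟩
    haveI := hN
    rcases hc.2.2.2 (N ⊔ V) inferInstance le_sup_right
        (sup_le (h2.trans inf_le_left) hc.1.le) with e | e
    · exact Or.inl (le_antisymm (le_inf (le_sup_left.trans e.le) h2) h1)
    · refine Or.inr (le_antisymm h2 fun x hx => ?_)
      obtain ⟨n, hn, v, hv, rfl⟩ := Subgroup.mem_sup_of_normal_right.1 (e.ge hx.1)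
      refine mul_mem hn (h1 ⟨hv, ?_⟩)
      have := mul_mem (inv_mem (h2 hn)) hx
      rwa [inv_mul_cancel_left] at this
  have h1 := (hj _ _ hc' inf_le_right).trans inf_le_left
  set mk := QuotientGroup.mk' V with hmk
  have e : ∀ n, (iterCommutator U (zpowers g) n).map mk =
      (iterCommutator (U ⊓ Z) (zpowers g) n).map mk := fun n => by
    induction n with
    | zero =>
      show U.map mk = (U ⊓ Z).map mk
      conv_lhs => rw [← hsup, Subgroup.map_sup, show V.map mk = ⊥ from
        (Subgroup.map_eq_bot_iff V).2 (QuotientGroup.ker_mk' V).ge, sup_bot_eq]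
    | succ n ih =>
      show (⁅iterCommutator U (zpowers g) n, zpowers g⁆).map mk =
        (⁅iterCommutator (U ⊓ Z) (zpowers g) n, zpowers g⁆).map mk
      rw [map_commutator, map_commutator, ih]
  rw [← QuotientGroup.ker_mk' V, ← hmk, ← Subgroup.map_eq_bot_iff, e, Subgroup.map_eq_bot_iff,
    QuotientGroup.ker_mk']
  exact h1

/-- An element of small degree on `O_p` when the Thompson subgroup is not normal. -/
theorem exists_small_degree {G : Type u} [Group G] [Finite G] (hp : 7 ≤ p) (T : Sylow p G)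
    (hJ : ¬ (thompsonSubgroupAOf (T : Subgroup G)).Normal) :
    ∃ g : G, g ∈ (T : Subgroup G) ∧ g ∉ Cfsg.pCore p G ∧ ∀ U V : Subgroup G,
      Cfsg.IsChiefFactor U V → U ≤ Cfsg.pCore p G →
        Cfsg.iterCommutator U (zpowers g) (p - 1) ≤ V := by
  set Q := Cfsg.pCore p G with hQ
  have hQT : Q ≤ (T : Subgroup G) := Cfsg.Lib.Core.pCore_le_sylow T
  obtain ⟨A₀, hA₀, hA₀Q⟩ : ∃ A, IsMaxAbIn (T : Subgroup G) A ∧ ¬ A ≤ Q := by
    by_contra hall
    push Not at hall
    refine hJ ?_
    have e : thompsonSubgroupAOf (T : Subgroup G) = thompsonSubgroupAOf Q := by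
      rw [thompsonSubgroupAOf_eq, thompsonSubgroupAOf_eq]
      refine congrArg sSup (Set.ext fun A => ⟨fun hA => ?_, fun hA => ?_⟩)
      · exact ⟨hall A hA, hA.2.1, fun C hC => hA.2.2 C (hC.trans hQT)⟩
      · obtain ⟨B, hB⟩ := exists_isMaxAbIn (T : Subgroup G)
        exact ⟨hA.1.trans hQT, hA.2.1,
          fun C hC hCc => (hB.2.2 C hC hCc).trans (hA.2.2 B (hall B hB) hB.2.1)⟩
    rw [e]
    refine normalizer_eq_top_iff.1 (top_le_iff.1 ?_)
    exact (normalizer_eq_top_iff.2 (inferInstance : Q.Normal)).ge.trans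
      (Cfsg.Lib.ThompsonA.normalizer_le_normalizer_thompsonSubgroupAOf Q)
  obtain ⟨A, ⟨hA, hAQ⟩, hmin⟩ := Set.exists_min_image
    {A : Subgroup G | IsMaxAbIn (T : Subgroup G) A ∧ ¬ A ≤ Q}
    (fun A => Nat.card (A ⊔ Q : Subgroup G)) (Set.toFinite _) ⟨A₀, hA₀, hA₀Q⟩
  have hS : Setup p (T : Subgroup G) Q A := ⟨T.2, hQT, hA, hAQ, fun B hB hBQ hBA =>
    le_sup_left.trans (eq_of_le_of_card_ge (sup_le hBA le_sup_right) (hmin B ⟨hB, hBQ⟩)).ge⟩
  obtain ⟨K, hKn, hKQ, hK2, hK3, hK4, -⟩ := Cfsg.Lib.Sig.exists_critical_pCore (p := p) (G := G)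
  haveI := hKn
  obtain ⟨B, hBT, hBQ, hdeg⟩ := hS.exists_degrees (K := K) ⟨hKQ, hK2, hK3⟩
  obtain ⟨g, hgB, hgQ⟩ := SetLike.not_le_iff_exists.1 hBQ
  refine ⟨g, hBT hgB, hgQ, fun U V hc hU => ?_⟩
  have hgz : zpowers g ≤ B := zpowers_le.2 hgB
  have hQp : IsPGroup p Q := Cfsg.Lib.Core.pCore_isPGroup p G
  haveI := hc.2.1
  haveI := hc.2.2.1
  have h6 : iterCommutator U (zpowers g) 6 ≤ V := by
    rcases hdeg with ⟨h4, h3⟩ | ⟨h5, h2⟩
    · exact Cfsg.Lib.Sig.iterCommutator_le_of_degrees hQp hKQ hK3 hK4 g (i := 4) (j := 3)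
        (by norm_num)
        (fun U V hc hU => iterCommutator_le_of_center (by norm_num)
          ((iterCommutator_mono le_rfl hgz 4).trans h4) (fun U V hc hU => h3 U V hc hU g hgB) hc hU)
        (fun U V hc hU => h3 U V hc hU g hgB) U V hc hU
    · have hj : ∀ U V, Cfsg.IsChiefFactor U V → U ≤ K ⊓ centralizer (K : Set G) →
          iterCommutator U (zpowers g) 2 ≤ V := fun U V _ hU =>
        (iterCommutator_mono hU hgz 2).trans (h2.le.trans bot_le)
      exact Cfsg.Lib.Sig.iterCommutator_le_of_degrees hQp hKQ hK3 hK4 g (i := 5) (j := 2)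
        (by norm_num)
        (fun U V hc hU => iterCommutator_le_of_center (by norm_num)
          ((iterCommutator_mono le_rfl hgz 5).trans h5) hj hc hU)
        hj U V hc hU
  exact (iterCommutator_antitone (zpowers g) (show 6 ≤ p - 1 by omega)).trans h6

/-- The functor given by the abelian version of the Thompson subgroup. -/
def jaFun : ∀ (Q : Type u) [Group Q], Subgroup Q := fun Q _ => Cfsg.thompsonSubgroupA Q

theorem isCharPFunctor_jaFun : Cfsg.IsCharPFunctor.{u} p jaFun := by
  refine ⟨fun Q _ _ _ _ he => ?_, fun Q R _ _ _ _ φ => ?_⟩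
  · obtain ⟨x, hx⟩ := exists_ne (1 : Q)
    obtain ⟨A, hA⟩ := exists_isMaxAbIn (⊤ : Subgroup Q)
    have hAJ : A ≤ thompsonSubgroupAOf (⊤ : Subgroup Q) := by
      rw [thompsonSubgroupAOf_eq]; exact le_sSup hA
    have hmap := Cfsg.Lib.Local.GlaubermanZJ.map_thompsonSubgroupA (G := (⊤ : Subgroup Q))
      (Subgroup.topEquiv (G := Q))
    have hAb : A ≤ ⊥ := hAJ.trans (hmap.le.trans (le_of_eq he))
    have h1 := hA.2.2 (zpowers x) le_top inferInstance
    rw [le_bot_iff.1 hAb, card_bot, Nat.card_zpowers] at h1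
    exact hx (orderOf_eq_one_iff.1 (le_antisymm h1 (orderOf_pos x)))
  · exact Cfsg.Lib.Local.GlaubermanZJ.map_thompsonSubgroupA φ

/-- The normalizer of the Thompson subgroup controls transfer. -/
theorem inf_commutator_eq {G : Type u} [Group G] [Finite G] (hp : 7 ≤ p) (S : Sylow p G) :
    (S : Subgroup G) ⊓ commutator G = (S : Subgroup G) ⊓
      ⁅normalizer (thompsonSubgroupAOf (S : Subgroup G) : Set G),
        normalizer (thompsonSubgroupAOf (S : Subgroup G) : Set G)⁆ :=
  (Cfsg.Lib.Sig.controlsTransferIn_of_step isCharPFunctor_jaFun (X := G)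
    (fun _ _ _ _ _ _ _ => Cfsg.Lib.Sig.transferStep_of_small_degree isCharPFunctor_jaFun
      fun T hT => exists_small_degree hp T hT)).2 S

/-- The largest `p`-factor group is that of the normalizer of the Thompson subgroup. -/
theorem nonempty_pFactor_equiv {G : Type u} [Group G] [Finite G] (hp : 7 ≤ p) (S : Sylow p G) :
    Nonempty (G ⧸ Cfsg.pResidual p G ≃*
      ↥(normalizer (thompsonSubgroupAOf (S : Subgroup G) : Set G)) ⧸
        Cfsg.pResidual p ↥(normalizer (thompsonSubgroupAOf (S : Subgroup G) : Set G))) := by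
  set N := normalizer (thompsonSubgroupAOf (S : Subgroup G) : Set G) with hN
  have hSN : (S : Subgroup G) ≤ N :=
    le_normalizer.trans (Cfsg.Lib.ThompsonA.normalizer_le_normalizer_thompsonSubgroupAOf _)
  have ht := Cfsg.Lib.Fusion.tate_of_commutator S N hSN
    (by rw [inf_comm, inf_commutator_eq hp S, inf_comm])
  let f := (QuotientGroup.mk' (Cfsg.pResidual p G)).comp N.subtype
  have hs : Function.Surjective f := fun q => by
    obtain ⟨g, rfl⟩ := QuotientGroup.mk_surjective q
    obtain ⟨x, hx, m, hm, rfl⟩ := Cfsg.Lib.Fusion.exists_mul_of_sylow S g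
    refine ⟨⟨x, hSN hx⟩, ?_⟩
    show (x : G ⧸ Cfsg.pResidual p G) = _
    rw [QuotientGroup.mk_mul, (QuotientGroup.eq_one_iff m).2 hm, mul_one]
  have hker : f.ker = Cfsg.pResidual p N := by
    refine le_antisymm (fun n hn => ?_) fun n hn => (QuotientGroup.eq_one_iff _).2
      (Cfsg.Lib.Fusion.map_subtype_pResidual_le N (mem_map_of_mem _ hn))
    have hn' : (n : G) ∈ Cfsg.pResidual p G := (QuotientGroup.eq_one_iff _).1 hn
    obtain ⟨x, hx, m, hm, rfl⟩ := Cfsg.Lib.Fusion.exists_mul_of_sylow (S.subtype hSN) n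
    refine mul_mem ?_ hm
    have hxR : (x : G) ∈ Cfsg.pResidual p G := by
      have := mul_mem hn'
        (inv_mem (Cfsg.Lib.Fusion.map_subtype_pResidual_le N (mem_map_of_mem _ hm)))
      simpa using this
    exact (mem_map_iff_mem N.subtype_injective).1 (ht.le ⟨hxR, hx⟩).1
  exact ⟨(QuotientGroup.quotientKerEquivOfSurjective f hs).symm.trans
    (QuotientGroup.quotientMulEquivOfEq hker)⟩

end Cfsg.Lib.Local.JTransfer
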